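import Groth.Agent.L13.Purity.Scheme
import Groth.Agent.L01.NormalDomain
import Mathlib.FieldTheory.Minpoly.IsIntegrallyClosed
import Mathlib.RingTheory.DedekindDomain.IntegralClosure

/-! Finiteness of sections of finite etale covers of big opens of normal affine schemes. -/

set_option autoImplicit false
set_option linter.style.haveILetI false
set_option backward.isDefEq.respectTransparency.types false

universe u

open TensorProduct CategoryTheory CategoryTheory.Limits AlgebraicGeometry Opposite TopologicalSpace Groth.L13.Purity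

namespace Groth.L27.PuncNormal

theorem mem_range_of_forall_height_le_one {R : Type u} [CommRing R] [IsDomain R] [IsNoetherianRing R]
    [IsIntegrallyClosed R] (K : Type u) [Field K] [Algebra R K] [IsFractionRing R K] (x : K)
    (h : ∀ (p : Ideal R) [p.IsPrime], p.height ≤ 1 → ∃ s ∉ p, ∃ r : R, algebraMap R K s * x = algebraMap R K r) :
    x ∈ (algebraMap R K).range := by
  obtain ⟨a, b, hb, rfl⟩ := IsFractionRing.div_surjective (A := R) x
  have hb0 : b ≠ 0 := nonZeroDivisors.ne_zero hb
  by_contra hx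
  have ha : Ideal.Quotient.mk (Ideal.span {b}) a ≠ 0 := fun h0 => by
    obtain ⟨c, rfl⟩ := Ideal.mem_span_singleton'.1 (Ideal.Quotient.eq_zero_iff_mem.1 h0)
    refine hx ⟨c, ?_⟩
    rw [map_mul, mul_div_assoc, div_self ((map_ne_zero_iff _ (IsFractionRing.injective R K)).2 hb0), mul_one]
  obtain ⟨p, hp, hle⟩ := exists_le_isAssociatedPrime_of_isNoetherianRing R (Ideal.Quotient.mk (Ideal.span {b}) a) ha
  haveI := hp.isPrime
  obtain ⟨s, hs, r, hr⟩ := h p (Groth.L01.height_eq_one_of_mem_associatedPrimes hb0 hp).le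
  refine hs (hle ?_)
  have h1 : s * a = r * b := IsFractionRing.injective R K (by
    have hb' : algebraMap R K b ≠ 0 := (map_ne_zero_iff _ (IsFractionRing.injective R K)).2 hb0
    rw [map_mul, map_mul, ← hr]
    field_simp)
  rw [Submodule.mem_colon_singleton, Submodule.mem_bot]
  exact Ideal.Quotient.eq_zero_iff_mem.2 (show s * a ∈ Ideal.span {b} from
    Ideal.mem_span_singleton'.2 ⟨r, h1.symm⟩)

theorem finite_sections {R T : Type u} [CommRing R] [IsDomain R] [IsNoetherianRing R] [IsIntegrallyClosed R]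
    [CommRing T] [Algebra R T] [Module.IsTorsionFree R T] {σ : Type*} (f : σ → R) (hne : ∀ i, f i ≠ 0)
    (hcov : ∀ (p : Ideal R) [p.IsPrime], p.height ≤ 1 → ∃ i, f i ∉ p)
    (het : ∀ i, Algebra.Etale (Localization.Away (f i)) (Localization.Away (f i) ⊗[R] T))
    (hfin : ∀ i, Module.Finite (Localization.Away (f i)) (Localization.Away (f i) ⊗[R] T)) :
    Module.Finite R T := by
  classical
  let K := FractionRing R
  obtain ⟨i₀, hi₀⟩ := hcov ⊥ (by rw [Ideal.height_bot]; exact bot_le)
  have hu : ∀ i, IsUnit (algebraMap R K (f i)) := fun i =>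
    isUnit_iff_ne_zero.2 ((map_ne_zero_iff _ (IsFractionRing.injective R K)).2 (hne i))
  haveI : Algebra.Etale K (K ⊗[R] T) := by
    letI : Algebra (Localization.Away (f i₀)) K := (IsLocalization.Away.lift (f i₀) (hu i₀) : Localization.Away (f i₀) →+* K).toAlgebra
    haveI : IsScalarTower R (Localization.Away (f i₀)) K := IsScalarTower.of_algebraMap_eq fun r =>
      (IsLocalization.Away.lift_eq (f i₀) (hu i₀) r).symm
    haveI := het i₀
    exact Algebra.Etale.of_equiv (Algebra.TensorProduct.cancelBaseChange R (Localization.Away (f i₀)) K K T)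
  obtain ⟨ι', hfinι, F, _, _, e, hF⟩ := (Algebra.Etale.iff_exists_algEquiv_prod (K := K) (A := K ⊗[R] T)).1 inferInstance
  haveI := hfinι
  letI algR : ∀ j, Algebra R (F j) := fun j => ((algebraMap K (F j)).comp (algebraMap R K)).toAlgebra
  haveI towR : ∀ j, IsScalarTower R K (F j) := fun j => IsScalarTower.of_algebraMap_eq fun r => rfl
  let g : T →ₐ[R] (∀ j, F j) :=
    (e.restrictScalars R).toAlgHom.comp (Algebra.TensorProduct.includeRight : T →ₐ[R] K ⊗[R] T)
  have hg : Function.Injective g := e.injective.comp (tmul_left_injective le_rfl K)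
  have hint : ∀ (t : T) j, IsIntegral R (g t j) := by
    intro t j
    haveI := (hF j).1
    have hcoef : ∀ k, (minpoly K (g t j)).coeff k ∈ (algebraMap R K).range := by
      intro k
      refine mem_range_of_forall_height_le_one K _ fun p hp hp1 => ?_
      obtain ⟨i, hi⟩ := hcov p hp1
      let Rf := Localization.Away (f i)
      haveI := hfin i
      have hM : Submonoid.powers (f i) ≤ nonZeroDivisors R := powers_le_nonZeroDivisors_of_noZeroDivisors (hne i)
      letI : Algebra Rf K := (IsLocalization.Away.lift (f i) (hu i) : Rf →+* K).toAlgebra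
      haveI : IsScalarTower R Rf K := IsScalarTower.of_algebraMap_eq fun r => (IsLocalization.Away.lift_eq (f i) (hu i) r).symm
      haveI : IsDomain Rf := IsLocalization.isDomain_localization hM
      haveI : IsIntegrallyClosed Rf := isIntegrallyClosed_of_isLocalization Rf (Submonoid.powers (f i)) hM
      haveI : IsFractionRing Rf K := IsFractionRing.isFractionRing_of_isDomain_of_isLocalization (Submonoid.powers (f i)) Rf K
      letI : Algebra Rf (F j) := ((algebraMap K (F j)).comp (algebraMap Rf K)).toAlgebra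
      haveI : IsScalarTower Rf K (F j) := IsScalarTower.of_algebraMap_eq fun r => rfl
      haveI : IsScalarTower R Rf (F j) := IsScalarTower.of_algebraMap_eq fun r =>
        congrArg (algebraMap K (F j)) (IsScalarTower.algebraMap_apply R Rf K r)
      let φ : Rf ⊗[R] T →ₐ[Rf] F j := Algebra.TensorProduct.lift (Algebra.ofId Rf (F j))
        ((Pi.evalAlgHom R F j).comp g) fun _ _ => Commute.all _ _
      have h1 : IsIntegral Rf (g t j) := by
        have h2 : φ ((1 : Rf) ⊗ₜ t) = g t j := by simp [φ]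
        rw [← h2]
        haveI : Algebra.IsIntegral Rf (Rf ⊗[R] T) := Algebra.IsIntegral.of_finite Rf _
        exact (Algebra.IsIntegral.isIntegral _).map φ
      rw [minpoly.isIntegrallyClosed_eq_field_fractions' K h1, Polynomial.coeff_map]
      obtain ⟨⟨r, ⟨_, n, rfl⟩⟩, hr⟩ := IsLocalization.surj (Submonoid.powers (f i)) ((minpoly Rf (g t j)).coeff k)
      refine ⟨f i ^ n, fun h => hi (hp.mem_of_pow_mem n h), r, ?_⟩
      rw [IsScalarTower.algebraMap_apply R Rf K, IsScalarTower.algebraMap_apply R Rf K r, ← map_mul, mul_comm]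
      exact congrArg _ hr
    haveI := (hF j).2
    have hKint : IsIntegral K (g t j) := Algebra.IsIntegral.isIntegral _
    obtain ⟨Q, hQ, -, hQm⟩ := Polynomial.lifts_and_natDegree_eq_and_monic
      ((Polynomial.lifts_iff_coeff_lifts _).2 hcoef) (minpoly.monic hKint)
    refine ⟨Q, hQm, ?_⟩
    rw [← Polynomial.aeval_def, ← Polynomial.aeval_map_algebraMap K, hQ, minpoly.aeval]
  haveI : ∀ j, Module.Finite R (integralClosure R (F j)) := fun j => by
    haveI := (hF j).1
    haveI := (hF j).2
    exact IsIntegralClosure.finite R K (F j) (integralClosure R (F j))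
  cases nonempty_fintype ι'
  let Φ : T →ₗ[R] (∀ j, integralClosure R (F j)) :=
    LinearMap.pi fun j => LinearMap.codRestrict (Subalgebra.toSubmodule (integralClosure R (F j)))
      ((LinearMap.proj j).comp g.toLinearMap) fun t => hint t j
  exact Module.Finite.of_injective Φ fun a b h => hg (funext fun j => congrArg Subtype.val (congrFun h j))

variable {X : Scheme.{u}} [AlgebraicGeometry.IsNoetherian X]

set_option maxHeartbeats 2000000 in
theorem finite_sections_scheme (U : X.Opens) {V : Scheme.{u}} (h : V ⟶ U) [IsFinite h] [Etale h] {D : X.Opens}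
    (hD : IsAffineOpen D) [IsDomain Γ(X, D)] [IsIntegrallyClosed Γ(X, D)]
    (hU : ∀ p : PrimeSpectrum Γ(X, D), p.asIdeal.height ≤ 1 → hD.fromSpec p ∈ U) :
    letI := ((h ≫ U.ι).app D).hom.toAlgebra
    Module.Finite Γ(X, D) Γ(V, (h ≫ U.ι) ⁻¹ᵁ D) := by
  let g := h ≫ U.ι
  letI := (g.app D).hom.toAlgebra
  haveI : CompactSpace U := isCompact_iff_compactSpace.1 (NoetherianSpace.isCompact (U : Set X))
  haveI : IsNoetherian (U : Scheme.{u}) := {}
  haveI : IsLocallyNoetherian V := LocallyOfFiniteType.isLocallyNoetherian h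
  haveI : CompactSpace V := QuasiCompact.compactSpace_of_compactSpace h
  haveI : IsNoetherian V := {}
  haveI : IsNoetherianRing Γ(X, D) := IsLocallyNoetherian.component_noetherian ⟨D, hD⟩
  let R := Γ(X, D)
  let T := Γ(V, g ⁻¹ᵁ D)
  -- a finite cover of the big open
  obtain ⟨σ₀, hσ₀fin, hσ₀le, hσ₀cov⟩ : ∃ σ₀ : Set R, σ₀.Finite ∧ (∀ f ∈ σ₀, X.basicOpen f ≤ U ∧ f ≠ 0) ∧
      ((D ⊓ U : X.Opens) : Set X) ⊆ ⋃ f ∈ σ₀, (X.basicOpen f : Set X) := by
    have hc : IsCompact ((D ⊓ U : X.Opens) : Set X) := NoetherianSpace.isCompact _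
    obtain ⟨b, hb, hbfin, hbcov⟩ := hc.elim_finite_subcover_image (b := {f : R | X.basicOpen f ≤ U ∧ f ≠ 0})
      (c := fun f => (X.basicOpen f : Set X)) (fun f _ => (X.basicOpen f).2) fun x hx => by
        obtain ⟨f, hf, hxf⟩ := hD.exists_basicOpen_le ⟨x, hx.2⟩ hx.1
        refine Set.mem_iUnion₂.2 ⟨f, ⟨hf, ?_⟩, hxf⟩
        rintro rfl
        rw [Scheme.basicOpen_zero] at hxf
        exact hxf
    exact ⟨b, hbfin, hb, hbcov⟩
  haveI : Finite σ₀ := hσ₀fin.to_subtype
  let f : σ₀ → R := Subtype.val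
  have hle : ∀ i, X.basicOpen (f i) ≤ U := fun i => (hσ₀le _ i.2).1
  have hne : ∀ i, f i ≠ 0 := fun i => (hσ₀le _ i.2).2
  -- local data
  let W : σ₀ → V.Opens := fun i => g ⁻¹ᵁ X.basicOpen (f i)
  have hWO : ∀ i, W i ≤ g ⁻¹ᵁ D := fun i => g.preimage_mono (X.basicOpen_le _)
  have hWcov : g ⁻¹ᵁ D ≤ iSup W := fun v hv => by
    obtain ⟨a, ha, hav⟩ := Set.mem_iUnion₂.1 (hσ₀cov (show g v ∈ ((D ⊓ U : X.Opens) : Set X) from ⟨hv, (h v).2⟩))
    exact Opens.mem_iSup.2 ⟨⟨a, ha⟩, hav⟩
  have hWeq : ∀ i, W i = V.basicOpen (g.app D (f i)) := fun i => g.preimage_basicOpen (f i)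
  let ρ : ∀ i, T →+* Γ(V, W i) := fun i => (V.presheaf.map (homOfLE (hWO i)).op).hom
  have hrf : ∀ i, IsUnit (ρ i (algebraMap R T (f i))) := by
    intro i
    letI := (ρ i).toAlgebra
    haveI : IsLocalization.Away (algebraMap R T (f i)) Γ(V, W i) :=
      isLocalizationAway_preimage _ (hWeq i) (hWO i)
    exact IsLocalization.Away.algebraMap_isUnit (algebraMap R T (f i))
  have key : ∀ i, (Algebra.Etale (Localization.Away (f i)) (Localization.Away (f i) ⊗[R] T) ∧
      Module.Finite (Localization.Away (f i)) (Localization.Away (f i) ⊗[R] T)) ∧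
      ∀ r : R, r ≠ 0 → ∀ y : Γ(V, W i), ρ i (algebraMap R T r) * y = 0 → y = 0 := by
    intro i
    let A := Γ(X, X.basicOpen (f i))
    let C := Γ(V, W i)
    let φ : A ⟶ C := g.app (X.basicOpen (f i))
    haveI : IsLocalization.Away (f i) A := hD.isLocalization_basicOpen (f i)
    letI : Algebra A C := φ.hom.toAlgebra
    letI : Algebra T C := (ρ i).toAlgebra
    letI : Algebra R C := ((ρ i).comp (algebraMap R T)).toAlgebra
    haveI : IsScalarTower R T C := IsScalarTower.of_algebraMap_eq fun r => rfl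
    haveI : IsScalarTower R A C := IsScalarTower.of_algebraMap_eq fun r =>
      (ConcreteCategory.congr_hom (g.naturality (homOfLE (X.basicOpen_le (f i))).op) r).symm
    haveI : IsLocalization.Away (algebraMap R T (f i)) C := isLocalizationAway_preimage _ (hWeq i) (hWO i)
    haveI : IsIso (U.ι.app (X.basicOpen (f i))) := U.ι.isIso_app _ (by simpa using hle i)
    have haff : IsAffineOpen (U.ι ⁻¹ᵁ X.basicOpen (f i)) :=
      (hD.basicOpen (f i)).preimage_of_isOpenImmersion U.ι (by simpa using hle i)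
    have hφ : φ = U.ι.app (X.basicOpen (f i)) ≫ h.app (U.ι ⁻¹ᵁ X.basicOpen (f i)) := Scheme.Hom.comp_app h U.ι _
    have hbij := (ConcreteCategory.isIso_iff_bijective (U.ι.app (X.basicOpen (f i)))).1 inferInstance
    haveI : Algebra.Etale A C := by
      rw [← RingHom.etale_algebraMap]
      show φ.hom.Etale
      rw [hφ]
      erw [CommRingCat.hom_comp]
      refine RingHom.Etale.stableUnderComposition _ _ (RingHom.Etale.of_bijective hbij) ?_
      have := HasRingHomProperty.appLE @Etale h inferInstance ⟨_, haff⟩ ⟨_, haff.preimage h⟩ le_rfl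
      rwa [Scheme.Hom.app_eq_appLE]
    haveI : Module.Finite A C := by
      rw [← RingHom.finite_algebraMap]
      show φ.hom.Finite
      rw [hφ]
      erw [CommRingCat.hom_comp]
      exact RingHom.Finite.comp (h.finite_app _ haff) (RingHom.Finite.of_surjective _ hbij.2)
    refine ⟨hyps_of_isLocalization (C := C) (A := A) (f i), fun r hr y hy => ?_⟩
    haveI : Module.Flat R A := IsLocalization.flat A (Submonoid.powers (f i))
    haveI : Module.Flat R C := Module.Flat.trans R A C
    have h0 : algebraMap R C r * y = 0 := hy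
    rw [← Algebra.smul_def] at h0
    exact (Module.Flat.isSMulRegular_of_nonZeroDivisors (mem_nonZeroDivisors_of_ne_zero hr)).right_eq_zero_of_smul h0
  haveI : Module.IsTorsionFree R T := by
    refine Module.isTorsionFree_iff_smul_eq_zero.2 fun r t hrt => ?_
    by_cases hr : r = 0
    · exact Or.inl hr
    refine Or.inr (TopCat.Sheaf.eq_of_locally_eq' V.sheaf W (g ⁻¹ᵁ D) (fun i => homOfLE (hWO i)) hWcov t 0 fun i => ?_)
    have h0 : ρ i (algebraMap R T r) * ρ i t = 0 := by rw [← map_mul, ← Algebra.smul_def, hrt, map_zero]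
    exact ((key i).2 r hr _ h0).trans (map_zero (ρ i)).symm
  refine finite_sections (R := R) (T := T) f hne (fun p hp hp1 => ?_) (fun i => (key i).1.1) (fun i => (key i).1.2)
  let y : PrimeSpectrum R := ⟨p, hp⟩
  have hy : hD.fromSpec y ∈ D := hD.range_fromSpec.subset ⟨y, rfl⟩
  letI := TopCat.Presheaf.algebra_section_stalk X.presheaf ⟨hD.fromSpec y, hy⟩
  haveI : IsLocalization.AtPrime (X.presheaf.stalk (hD.fromSpec y)) p := hD.isLocalization_stalk' y hy
  have hyU : hD.fromSpec y ∈ U := hU y hp1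
  obtain ⟨a, ha, hay⟩ := Set.mem_iUnion₂.1 (hσ₀cov (show hD.fromSpec y ∈ ((D ⊓ U : X.Opens) : Set X) from ⟨hy, hyU⟩))
  refine ⟨⟨a, ha⟩, fun hap => ?_⟩
  have hu := (X.mem_basicOpen a _ hy).1 hay
  exact IsLocalization.AtPrime.isUnit_to_map_iff (X.presheaf.stalk (hD.fromSpec y)) p a |>.1 hu hap

end Groth.L27.PuncNormal
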