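import Groth.Agent.L27.PuncNormal.Finite
import Groth.Agent.L27.ExtendReg.Sections
import Groth.Agent.L27.EtLocal.StalkProps
import Groth.Prelude.Def_FEt
import Mathlib.AlgebraicGeometry.QuasiAffine

/-! Finite etale covers of the punctured spectrum of a normal local domain and their sections. -/

set_option autoImplicit false
set_option linter.style.haveILetI false
set_option backward.isDefEq.respectTransparency.types false

universe u

open CategoryTheory CategoryTheory.Limits AlgebraicGeometry TopologicalSpace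

namespace Groth.L27.PuncNormal

theorem bijective_appTop {Y X W : Scheme.{u}} [IsLocallyNoetherian Y] (π : Y ⟶ X) (i : W ⟶ Y) [IsOpenImmersion i]
    (hd : Dense (i.opensRange : Set Y))
    (hn : ∀ p : Y, p ∉ i.opensRange → IsDomain (Y.presheaf.stalk p) ∧ IsIntegrallyClosed (Y.presheaf.stalk p))
    (hint : (i ≫ π).appTop.hom.IsIntegral) : Function.Bijective i.appTop.hom := by
  let V0 := i.opensRange
  have hpre : (⊤ : W.Opens) ≤ i ⁻¹ᵁ V0 := fun v _ => ⟨v, rfl⟩
  let e := i.appLE V0 ⊤ hpre
  haveI : IsIso e := by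
    have h0 : IsIso (homOfLE hpre) :=
      ⟨homOfLE le_top, Subsingleton.elim _ _, Subsingleton.elim _ _⟩
    haveI := i.isIso_app V0 le_rfl
    show IsIso (i.app V0 ≫ W.presheaf.map (homOfLE hpre).op)
    infer_instance
  have he : ∀ b, e.hom ((Y.presheaf.map (homOfLE (le_top : V0 ≤ ⊤)).op).hom b) = i.appTop.hom b := fun b => by
    show (Y.presheaf.map _ ≫ i.appLE V0 ⊤ hpre).hom b = _
    rw [Scheme.Hom.map_appLE]
    exact congr($(i.appLE_eq_app (U := ⊤)) b)
  constructor
  · intro a b h
    refine Groth.L27.ExtendReg.eq_of_res_eq V0 hd hn a b ?_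
    rw [← he, ← he] at h
    have h2 := congrArg (Y.presheaf.map (homOfLE (inf_le_right : ⊤ ⊓ V0 ≤ V0)).op).hom
      ((ConcreteCategory.bijective_of_isIso e).1 h)
    simp only [← CommRingCat.comp_apply, ← Functor.map_comp] at h2
    exact h2
  · intro z
    obtain ⟨P, hP, hPz⟩ := hint z
    obtain ⟨c, hc⟩ := (ConcreteCategory.bijective_of_isIso e).2 z
    have h1 : (P.map π.appTop.hom).eval₂ (Y.presheaf.map (homOfLE (le_top : V0 ≤ ⊤)).op).hom c = 0 := by
      refine (ConcreteCategory.bijective_of_isIso e).1 ?_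
      have key : (e.hom.comp (Y.presheaf.map (homOfLE (le_top : V0 ≤ ⊤)).op).hom).comp π.appTop.hom =
          (i ≫ π).appTop.hom := by
        ext r
        show e.hom ((Y.presheaf.map _).hom (π.appTop.hom r)) = _
        rw [he, Scheme.Hom.comp_appTop]
        rfl
      show e.hom _ = e.hom 0
      rw [map_zero, Polynomial.hom_eval₂, Polynomial.eval₂_map, key]
      refine Eq.trans ?_ hPz
      congr 1
    obtain ⟨b, hb⟩ := Groth.L27.ExtendReg.exists_eq_of_isIntegral V0 hd hn c (P.map π.appTop.hom) (hP.map _) h1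
    exact ⟨b, by rw [← he, hb]; exact hc⟩

variable (A : Type u) [CommRing A] [IsDomain A] [IsNoetherianRing A] [IsLocalRing A] [IsIntegrallyClosed A]

/-- the structure map of the sections -/
noncomputable abbrev secHom {V : Scheme.{u}} (g : V ⟶ Spec (CommRingCat.of A)) : A →+* Γ(V, ⊤) :=
  g.appTop.hom.comp (Scheme.ΓSpecIso (CommRingCat.of A)).inv.hom

theorem finite_appTop (hdim : (2 : WithBot ℕ∞) ≤ ringKrullDim A) {V : Scheme.{u}}
    (h : V ⟶ (FEt.puncturedSpec A : Scheme.{u})) [IsFinite h] [Etale h] :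
    (h ≫ (FEt.puncturedSpec A).ι).appTop.hom.Finite := by
  let X := Spec (CommRingCat.of A)
  let U := FEt.puncturedSpec A
  haveI : AlgebraicGeometry.IsNoetherian X := inferInstance
  let eA : A ≃+* Γ(X, ⊤) := (Scheme.ΓSpecIso (CommRingCat.of A)).symm.commRingCatIsoToRingEquiv
  haveI : IsDomain Γ(X, ⊤) := eA.symm.toMulEquiv.isDomain A
  haveI : IsIntegrallyClosed Γ(X, ⊤) := IsIntegrallyClosed.of_equiv eA
  letI := ((h ≫ U.ι).app ⊤).hom.toAlgebra
  refine RingHom.finite_algebraMap.2 (finite_sections_scheme U h (isAffineOpen_top X) fun p hp => ?_)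
  intro hc
  have hx : (isAffineOpen_top X).fromSpec p = IsLocalRing.closedPoint A := hc
  letI := TopCat.Presheaf.algebra_section_stalk X.presheaf ⟨(isAffineOpen_top X).fromSpec p, Opens.mem_top _⟩
  haveI : IsLocalization.AtPrime (X.presheaf.stalk ((isAffineOpen_top X).fromSpec p)) p.asIdeal :=
    (isAffineOpen_top X).isLocalization_stalk' p (Opens.mem_top _)
  have h1 := IsLocalization.AtPrime.ringKrullDim_eq_height p.asIdeal (X.presheaf.stalk ((isAffineOpen_top X).fromSpec p))
  letI : Algebra A (X.presheaf.stalk ((isAffineOpen_top X).fromSpec p)) :=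
    StructureSheaf.stalkAlgebra A ((isAffineOpen_top X).fromSpec p)
  haveI : IsLocalization.AtPrime (X.presheaf.stalk ((isAffineOpen_top X).fromSpec p))
      ((isAffineOpen_top X).fromSpec p : PrimeSpectrum A).asIdeal :=
    StructureSheaf.IsLocalization.to_stalk A ((isAffineOpen_top X).fromSpec p)
  have h2 := IsLocalization.AtPrime.ringKrullDim_eq_height
    ((isAffineOpen_top X).fromSpec p : PrimeSpectrum A).asIdeal (X.presheaf.stalk ((isAffineOpen_top X).fromSpec p))
  have h3 : ((isAffineOpen_top X).fromSpec p : PrimeSpectrum A).asIdeal = IsLocalRing.maximalIdeal A :=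
    congrArg PrimeSpectrum.asIdeal hx
  have h4 : (2 : WithBot ℕ∞) ≤ (p.asIdeal.height : WithBot ℕ∞) := by
    rw [← h1, h2]
    simp only [h3]
    rw [IsLocalRing.maximalIdeal_height_eq_ringKrullDim]
    exact hdim
  exact absurd (h4.trans (WithBot.coe_le_coe.2 hp)) (by decide)

theorem bijective_ι_appTop (hdim : (2 : WithBot ℕ∞) ≤ ringKrullDim A) :
    Function.Bijective (FEt.puncturedSpec A).ι.appTop.hom ∧
      Dense ((FEt.puncturedSpec A : (Spec (CommRingCat.of A)).Opens) : Set (Spec (CommRingCat.of A))) ∧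
      ∀ x : Spec (CommRingCat.of A),
        IsDomain ((Spec (CommRingCat.of A)).presheaf.stalk x) ∧ IsIntegrallyClosed ((Spec (CommRingCat.of A)).presheaf.stalk x) := by
  let X := Spec (CommRingCat.of A)
  let U := FEt.puncturedSpec A
  have hU : Dense (U : Set X) := by
    refine U.2.dense ⟨(⟨⊥, Ideal.isPrime_bot⟩ : PrimeSpectrum A), fun h => ?_⟩
    have hb : IsLocalRing.maximalIdeal A = ⊥ := (congrArg PrimeSpectrum.asIdeal h).symm
    have h0 := IsLocalRing.maximalIdeal_height_eq_ringKrullDim (R := A)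
    rw [hb, Ideal.height_bot] at h0
    rw [← h0] at hdim
    exact absurd hdim (by decide)
  have hnorm : ∀ x : X, IsDomain (X.presheaf.stalk x) ∧ IsIntegrallyClosed (X.presheaf.stalk x) := fun x => by
    letI : Algebra A (X.presheaf.stalk x) := StructureSheaf.stalkAlgebra A x
    haveI : IsLocalization.AtPrime (X.presheaf.stalk x) (x : PrimeSpectrum A).asIdeal :=
      StructureSheaf.IsLocalization.to_stalk A x
    have hle := Ideal.primeCompl_le_nonZeroDivisors (x : PrimeSpectrum A).asIdeal
    haveI := IsLocalization.isDomain_of_le_nonZeroDivisors (M := (x : PrimeSpectrum A).asIdeal.primeCompl)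
      (S := X.presheaf.stalk x) hle
    exact ⟨inferInstance, isIntegrallyClosed_of_isLocalization _ _ hle⟩
  refine ⟨?_, hU, hnorm⟩
  refine bijective_appTop (𝟙 X) U.ι (by rw [Scheme.Opens.opensRange_ι]; exact hU) (fun x _ => hnorm x) ?_
  have h := finite_appTop A hdim (𝟙 U.toScheme)
  rw [Category.id_comp] at h
  rw [Category.comp_id]
  exact h.to_isIntegral

theorem main (hdim : (2 : WithBot ℕ∞) ≤ ringKrullDim A) (V : FEt.Cat (FEt.puncturedSpec A : Scheme.{u})) :
    (secHom A (V.hom ≫ (FEt.puncturedSpec A).ι)).Finite ∧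
    ((∃ Y : FEt.Cat (Spec (CommRingCat.of A)), Nonempty ((FEt.restrict (FEt.puncturedSpec A).ι).obj Y ≅ V)) ↔
      (secHom A (V.hom ≫ (FEt.puncturedSpec A).ι)).Etale) := by
  let X := Spec (CommRingCat.of A)
  let U := FEt.puncturedSpec A
  haveI : IsFinite V.hom := V.prop.1
  haveI : Etale V.hom := V.prop.2
  let g : V.left ⟶ X := V.hom ≫ U.ι
  let eA := (Scheme.ΓSpecIso (CommRingCat.of A)).inv
  have heA : Function.Bijective eA.hom := ConcreteCategory.bijective_of_isIso eA
  have hfin : (secHom A g).Finite := (finite_appTop A hdim V.hom).comp (RingHom.Finite.of_surjective _ heA.2)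
  refine ⟨hfin, ?_, ?_⟩
  · rintro ⟨Y, ⟨e⟩⟩
    let YL : Scheme.{u} := Y.left
    let yh : YL ⟶ X := Y.hom
    haveI : IsFinite yh := Y.prop.1
    haveI : Etale yh := Y.prop.2
    haveI : IsLocallyNoetherian YL := LocallyOfFiniteType.isLocallyNoetherian yh
    haveI : IsAffine X := inferInstanceAs (IsAffine (Spec (CommRingCat.of A)))
    haveI : IsAffine YL := isAffine_of_isAffineHom yh
    let el : V.left ⟶ pullback Y.hom U.ι := e.inv.left
    haveI : IsIso el := ((MorphismProperty.Over.forget _ _ _ ⋙ Over.forget _).mapIso e.symm).isIso_hom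
    let i : V.left ⟶ YL := el ≫ pullback.fst Y.hom U.ι
    have hi : i ≫ yh = g := by
      show (el ≫ _) ≫ _ = _
      rw [Category.assoc, pullback.condition, ← Category.assoc]
      exact congrArg (· ≫ U.ι) (MorphismProperty.Over.w e.inv)
    obtain ⟨-, hU, hnorm⟩ := bijective_ι_appTop A hdim
    have hr : (i.opensRange : Set YL) = yh ⁻¹' (U : Set X) := by
      show Set.range i = _
      rw [Scheme.Hom.comp_base, TopCat.coe_comp, Set.range_comp, Set.range_eq_univ.2 el.surjective, Set.image_univ,
        Scheme.Pullback.range_fst, Scheme.Opens.range_ι]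
    have hbij := bijective_appTop yh i (by rw [hr]; exact hU.preimage yh.isOpenMap)
      (fun q _ => (Groth.L27.EtLocal.normal_stalk_iff yh q).2 (hnorm _))
      (by rw [hi]; exact (finite_appTop A hdim V.hom).to_isIntegral)
    have heq : secHom A g = i.appTop.hom.comp (yh.appTop.hom.comp eA.hom) := by
      show g.appTop.hom.comp eA.hom = _
      rw [← hi, Scheme.Hom.comp_appTop, CommRingCat.hom_comp]
      rfl
    rw [heq]
    exact RingHom.Etale.stableUnderComposition _ _
      (RingHom.Etale.stableUnderComposition _ _ (RingHom.Etale.of_bijective heA)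
        (HasRingHomProperty.appTop @Etale yh inferInstance)) (RingHom.Etale.of_bijective hbij)
  · intro het
    let φ : CommRingCat.of A ⟶ Γ(V.left, ⊤) := CommRingCat.ofHom (secHom A g)
    let ψ : Spec Γ(V.left, ⊤) ⟶ X := Spec.map φ
    have hψ : FEt.prop ψ := ⟨(IsFinite.SpecMap_iff _).2 hfin, (HasRingHomProperty.Spec_iff (P := @Etale)).2 het⟩
    haveI : CompactSpace U := isCompact_iff_compactSpace.1 (NoetherianSpace.isCompact (U : Set X))
    haveI : U.toScheme.IsQuasiAffine := Scheme.IsQuasiAffine.of_isImmersion U.ι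
    haveI : IsIso U.ι.appTop := (ConcreteCategory.isIso_iff_bijective _).2 (bijective_ι_appTop A hdim).1
    let VL : Scheme.{u} := V.left
    let vh : VL ⟶ U.toScheme := V.hom
    haveI : IsAffineHom vh := (inferInstance : IsAffineHom V.hom)
    have hsq := Scheme.isPullback_toSpecΓ_toSpecΓ vh
    let b : Spec Γ(U.toScheme, ⊤) ≅ X := asIso (Spec.map U.ι.appTop) ≪≫ X.isoSpec.symm
    have hb : U.toScheme.toSpecΓ ≫ b.hom = U.ι := by
      show _ ≫ Spec.map _ ≫ X.isoSpec.inv = _
      rw [← Category.assoc, ← Scheme.toSpecΓ_naturality, Category.assoc, ← Scheme.isoSpec_hom, Iso.hom_inv_id,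
        Category.comp_id]
    have hψ' : Spec.map vh.appTop ≫ b.hom = ψ := by
      show _ ≫ Spec.map _ ≫ X.isoSpec.inv = _
      rw [Scheme.isoSpec_Spec_inv, ← Spec.map_comp, ← Spec.map_comp]
      congr 1
    have hsq' : IsPullback vh VL.toSpecΓ U.ι ψ :=
      IsPullback.of_iso hsq (Iso.refl _) (Iso.refl _) (Iso.refl _) b (by simp) (by simp) (by simpa using hb)
        (by simpa using hψ')
    refine ⟨MorphismProperty.Over.mk ⊤ ψ hψ, ⟨(MorphismProperty.Over.isoMk hsq'.flip.isoPullback ?_).symm⟩⟩
    exact hsq'.flip.isoPullback_hom_snd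

end Groth.L27.PuncNormal
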